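import Cfsg.Agent.H0.PG2
set_option maxRecDepth 100000
set_option Elab.async false
set_option linter.unusedSectionVars false
namespace H0.MA7
open H0 BN 
noncomputable def n0 : Net := (Net.cons (nat_lit 4) (nat_lit 0xf) (Net.cons (nat_lit 2) (nat_lit 0x11) (Net.cons (nat_lit 1) (nat_lit 0x50) (Net.cons (nat_lit 4) (nat_lit 0xa) Net.nil))))
noncomputable def n1 : Net := (Net.cons (nat_lit 4) (nat_lit 0x5) (Net.cons (nat_lit 2) (nat_lit 0x12) (Net.cons (nat_lit 1) (nat_lit 0x5) Net.nil)))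
noncomputable def n2 : Net := (Net.cons (nat_lit 1) (nat_lit 0x14) (Net.cons (nat_lit 2) (nat_lit 0x2) (Net.cons (nat_lit 4) (nat_lit 0x2) Net.nil)))
noncomputable def n3 : Net := (Net.cons (nat_lit 4) (nat_lit 0x2) (Net.cons (nat_lit 2) (nat_lit 0x2) (Net.cons (nat_lit 1) (nat_lit 0x14) Net.nil)))
noncomputable def n4 : Net := (Net.cons (nat_lit 4) (nat_lit 0x2) (Net.cons (nat_lit 2) (nat_lit 0x2) (Net.cons (nat_lit 1) (nat_lit 0x14) Net.nil)))
noncomputable def n5 : Net := (Net.cons (nat_lit 1) (nat_lit 0x14) (Net.cons (nat_lit 2) (nat_lit 0x2) (Net.cons (nat_lit 4) (nat_lit 0x2) Net.nil)))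
noncomputable def n6 : Net := (Net.cons (nat_lit 2) (nat_lit 0x12) (Net.cons (nat_lit 1) (nat_lit 0x4) (Net.cons (nat_lit 2) (nat_lit 0x2) (Net.cons (nat_lit 4) (nat_lit 0x6) Net.nil))))
noncomputable def n7 : Net := (Net.cons (nat_lit 4) (nat_lit 0x6) (Net.cons (nat_lit 2) (nat_lit 0x12) (Net.cons (nat_lit 1) (nat_lit 0x4) (Net.cons (nat_lit 2) (nat_lit 0x2) Net.nil))))
noncomputable def n8 : Net := (Net.cons (nat_lit 2) (nat_lit 0x20) (Net.cons (nat_lit 1) (nat_lit 0x44) (Net.cons (nat_lit 2) (nat_lit 0x20) Net.nil)))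
noncomputable def n9 : Net := (Net.cons (nat_lit 4) (nat_lit 0x2) (Net.cons (nat_lit 2) (nat_lit 0x12) (Net.cons (nat_lit 1) (nat_lit 0x4) (Net.cons (nat_lit 4) (nat_lit 0x6) Net.nil))))
noncomputable def n10 : Net := (Net.cons (nat_lit 4) (nat_lit 0x6) (Net.cons (nat_lit 2) (nat_lit 0x10) (Net.cons (nat_lit 1) (nat_lit 0x4) (Net.cons (nat_lit 2) (nat_lit 0x2) (Net.cons (nat_lit 4) (nat_lit 0x2) Net.nil)))))
noncomputable def n11 : Net := (Net.cons (nat_lit 4) (nat_lit 0x8) (Net.cons (nat_lit 2) (nat_lit 0x30) (Net.cons (nat_lit 4) (nat_lit 0x8) Net.nil)))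
noncomputable def n12 : Net := (Net.cons (nat_lit 4) (nat_lit 0x8) (Net.cons (nat_lit 2) (nat_lit 0x30) (Net.cons (nat_lit 1) (nat_lit 0x10) (Net.cons (nat_lit 2) (nat_lit 0x20) (Net.cons (nat_lit 4) (nat_lit 0x8) Net.nil)))))
noncomputable def n13 : Net := (Net.cons (nat_lit 4) (nat_lit 0x8) (Net.cons (nat_lit 2) (nat_lit 0x10) (Net.cons (nat_lit 1) (nat_lit 0x40) (Net.cons (nat_lit 4) (nat_lit 0x8) Net.nil))))
noncomputable def n14 : Net := (Net.cons (nat_lit 2) (nat_lit 0x10) (Net.cons (nat_lit 1) (nat_lit 0x10) Net.nil))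
noncomputable def n15 : Net := (Net.cons (nat_lit 2) (nat_lit 0x30) (Net.cons (nat_lit 1) (nat_lit 0x40) (Net.cons (nat_lit 2) (nat_lit 0x20) Net.nil)))
noncomputable def n16 : Net := (Net.cons (nat_lit 4) (nat_lit 0x9) (Net.cons (nat_lit 2) (nat_lit 0x31) (Net.cons (nat_lit 1) (nat_lit 0x11) (Net.cons (nat_lit 2) (nat_lit 0x20) (Net.cons (nat_lit 4) (nat_lit 0xa) Net.nil)))))
def B : List (List ℕ) := [[0, 1], [1, 0], [2, 3], [3, 2], [4, 5], [5, 4], [6, 7], [7, 6], [8, 8], [9, 10], [10, 9], [11, 11], [12, 13], [13, 12], [14, 15], [15, 14], [14, 14, 14], [12, 12, 12], [11, 13, 11, 15], [11, 12, 11, 12, 11, 12], [11, 12, 11, 13, 11, 12, 11, 13], [11, 13, 11, 13, 11, 13], [9, 9, 9, 9, 9], [10, 8, 9, 11], [8, 10, 13], [8, 9, 8, 9, 8, 9], [8, 9, 8, 10, 8, 9, 8, 10, 8, 9, 8, 10, 8, 9, 8, 10, 8, 9, 8, 10], [8, 10, 8, 10, 8, 10], [4, 4, 4, 4, 4], [6, 6, 6, 6, 6], [6, 6, 5, 8], [5, 7, 4, 10], [4, 6, 4, 6, 4, 6, 4,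 6, 4, 6], [4, 6, 5, 7, 4, 6, 5, 7, 4, 6, 5, 7, 4, 6, 5, 7], [4, 7, 4, 7, 4, 7, 4, 7], [6, 14, 6, 14], [7, 9, 7, 9], [6, 13, 5, 9, 13], [7, 13, 6, 15, 10], [0, 0, 0], [2, 2, 2, 2, 2], [3, 5], [1, 3, 0, 7], [0, 2, 0, 2, 0, 2, 0, 2], [0, 2, 1, 3, 0, 2, 1, 3, 0, 2, 1, 3, 0, 2, 1, 3], [0, 3, 0, 3, 0, 3, 0, 3, 0, 3, 0, 3, 0, 3], [0, 15, 1, 14, 8, 5], [0, 13, 0, 15, 13, 4]]
def inv (x : ℕ) : ℕ := [1, 0, 3, 2, 5, 4, 7, 6, 8, 10, 9, 11, 13, 12, 15, 14].getD x 0
noncomputable def nl : List Net := [n0, n1, n2, n3, n4, n5, n6, n7, n8, n9, n10, n11, n12, n13, n14, n15, n16]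
theorem nl_ok : allL (Net.ok (nat_lit 8)) nl = true := by decide +kernel
noncomputable def R : Rep := mkRep (nat_lit 3) (nat_lit 8) nl (by decide +kernel) nl_ok
def defs : List (List ℕ) := [[2, 1]]
theorem R_ge : ∀ x, 16 + defs.length ≤ x → R.p x = 1 := fun _ hx => mkRep_ge hx
def ngSt : List (List (ℕ × List ℕ) × List ℕ × ℕ × ℕ) := [([(0, [])], [0], 5, 3), ([(1, [])], [1], 1, 3), ([(1, [])], [2], 4, 5), ([(3, [])], [3], 1, 5), ([(3, [])], [4], 1, 5), ([(4, [])], [5], 1, 5), ([(2, [])], [6], 4, 5), ([(7, [])], [7], 1, 5), ([(8, [])], [9], 2, 5), ([(9, [])], [10], 1, 5), ([(9, [])], [12], 2, 3), ([(11, [])], [13], 1, 3), ([(7, [])], [14], 2, 3), ([(13, [])], [15], 1, 3), ([(9, [])], [8], 3, 2), ([(9, [])], [11], 3, 2)]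
def ngR : List (List ℕ) := ngRels inv ngSt [[16]]
def xR : List (List ℕ) := [wpow [16] 7]
theorem c0 : relsW R 0 R.lg ((B.drop 0).take 48) = true := by decide +kernel
theorem c1 : defsChk R defs 16 = true := by decide +kernel
theorem c2 : Model.fixW R [] [[0], [2]] = true := by decide +kernel
theorem c3 : Model.growW R [[0], [2]] [0, 0, 1, 0, 0, 1] (Nat.pow 2 0) (ival 0 7) = true := by decide +kernel
theorem c4 : Model.fixW R [0] [[4], [6]] = true := by decide +kernel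
theorem c5 : Model.growW R [[4], [6]] [0, 1, 0] (Nat.pow 2 1) (ival 1 6) = true := by decide +kernel
theorem c6 : Model.fixW R [1, 0] [[8], [9]] = true := by decide +kernel
theorem c7 : Model.growW R [[8], [9]] [0, 1, 0, 1] (Nat.pow 2 2) (ival 2 5) = true := by decide +kernel
theorem c8 : Model.fixW R [2, 1, 0] [[11], [12]] = true := by decide +kernel
theorem c9 : Model.growW R [[11], [12]] [0, 1, 0] (Nat.pow 2 3) (ival 3 4) = true := by decide +kernel
theorem c10 : Model.fixW R [3, 2, 1, 0] [[14]] = true := by decide +kernel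
theorem c11 : Model.growW R [[14]] [0, 0] (Nat.pow 2 4) (ival 4 3) = true := by decide +kernel
theorem c12 : Model.growW R [[0], [2]] [0, 0, 1, 0, 0, 1] (Nat.pow 2 0) (ival 0 7) = true := by decide +kernel
theorem c13 : Model.invW R [[0], [1], [2], [3], [4], [5], [6], [7], [8], [9], [10], [11], [12], [13], [14], [15]] 0 7 = true := by decide +kernel
theorem c14 : Model.fixW R [0] [[4], [6]] = true := by decide +kernel
theorem c15 : Model.growW R [[4], [6]] [1, 0, 1, 0] (Nat.pow 2 6) (ival 1 6) = true := by decide +kernel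
theorem c16 : mapsW R [0] (Nat.pow 2 0) (Nat.pow 2 6) = true := by decide +kernel
theorem c17 : Model.growW R [[0], [4], [6]] [0, 0, 1, 0, 0, 1] (Nat.pow 2 0) (ival 0 7) = true := by decide +kernel
theorem c18 : relsW R 0 R.lg ((ngR.drop 0).take 32) = true := by decide +kernel
theorem c19 : relsW R 0 R.lg ((xR.drop 0).take 1) = true := by decide +kernel
end H0.MA7
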